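import Mathlib

/-!
The arithmetic of fixed uniform partitions of a product of `t` cycles of prime length `r`.
-/

set_option autoImplicit false

namespace Cfsg.Agent.Lib.UniformPart

/-- `t` cycles can be spread over `b` blocks of size `a`, `m` orbits of `r` blocks being permuted. -/
def Feasible (a b r t : ℕ) : Prop := ∃ m, r * m ≤ b ∧ m * a ≤ t ∧ t ≤ m * a + (b - r * m) * (a / r)

theorem feasible_all_iff (a b r : ℕ) (ha : 2 ≤ a) (hb : 2 ≤ b) (hr : 2 ≤ r) (hrab : r ≤ a * b) :
    (∀ t, 1 ≤ t → r * t ≤ a * b → Feasible a b r t) ↔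
      (r ≤ a ∧ (a % r = 0 ∨ (b % r = 0 ∧ a % r = 1) ∨
        (a % r ≠ 0 ∧ b % r ≠ 0 ∧ (b % r) * (a % r) < r ∧ (b < r ∨ (b % r + r) * (a % r) ≤ (b % r) * a + r)))) := by
  obtain ⟨q, l, hl, rfl⟩ : ∃ q l, l < r ∧ a = r * q + l :=
    ⟨a / r, a % r, Nat.mod_lt _ (by omega), (Nat.div_add_mod a r).symm⟩
  obtain ⟨p, k, hk, rfl⟩ : ∃ p k, k < r ∧ b = r * p + k :=
    ⟨b / r, b % r, Nat.mod_lt _ (by omega), (Nat.div_add_mod b r).symm⟩
  have hdl : (r * q + l) / r = q := by
    rw [Nat.mul_add_div (by omega), Nat.div_eq_of_lt hl, add_zero]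
  have hml : (r * q + l) % r = l := by rw [Nat.mul_add_mod, Nat.mod_eq_of_lt hl]
  have hmk : (r * p + k) % r = k := by rw [Nat.mul_add_mod, Nat.mod_eq_of_lt hk]
  rw [hml, hmk]
  have hend : ∀ m, r * m ≤ r * p + k →
      m * (r * q + l) + (r * p + k - r * m) * q = (r * p + k) * q + m * l := by
    intro m hm
    obtain ⟨e, he⟩ := Nat.exists_eq_add_of_le hm
    rw [he, Nat.add_sub_cancel_left]
    ring
  have hmp : ∀ m, r * m ≤ r * p + k → m ≤ p := by
    intro m hm
    by_contra hc
    have : r * (p + 1) ≤ r * m := Nat.mul_le_mul_left r (by omega)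
    rw [Nat.mul_succ] at this
    omega
  have hgap : (r * p + k < r ∨ (k + r) * l ≤ k * (r * q + l) + r) ↔ (p = 0 ∨ l ≤ k * q + 1) := by
    have e : (k + r) * l ≤ k * (r * q + l) + r ↔ l ≤ k * q + 1 := by
      constructor <;> intro h
      · exact Nat.le_of_mul_le_mul_left (show r * l ≤ r * (k * q + 1) by nlinarith) (by omega)
      · nlinarith
    rw [e]
    constructor <;> rintro (h | h)
    · refine Or.inl ?_
      by_contra hp
      have : r * 1 ≤ r * p := Nat.mul_le_mul_left r (by omega)
      omega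
    · exact Or.inr h
    · subst h
      exact Or.inl (by omega)
    · exact Or.inr h
  rw [hgap]
  have key : (∀ t, 1 ≤ t → r * t ≤ (r * q + l) * (r * p + k) → Feasible (r * q + l) (r * p + k) r t) ↔
      (1 ≤ q ∧ k * l < r ∧ (p = 0 ∨ l ≤ k * q + 1)) := by
    constructor
    · intro h
      refine ⟨?_, ?_, ?_⟩
      · obtain ⟨m, hm, h1, h2⟩ := h 1 le_rfl (by simpa using hrab)
        rw [hdl] at h2
        by_contra hq
        obtain rfl : q = 0 := by omega
        rcases Nat.eq_zero_or_pos m with rfl | hm0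
        · simp at h2
        · have := Nat.mul_le_mul_right (r * 0 + l) hm0
          omega
      · by_contra hkl
        obtain ⟨m, hm, h1, h2⟩ := h ((r * p + k) * q + p * l + 1) (by omega) (by nlinarith)
        rw [hdl, hend m hm] at h2
        have := Nat.mul_le_mul_right l (hmp m hm)
        omega
      · by_contra hc
        push Not at hc
        have hp : 1 ≤ p := by omega
        have hA : 2 ≤ p * (r * q + l) := le_trans ha (Nat.le_mul_of_pos_left _ hp)
        obtain ⟨m, hm, h1, h2⟩ := h (p * (r * q + l) - 1) (by omega)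
          ((Nat.mul_le_mul_left r (Nat.sub_le _ 1)).trans (by nlinarith))
        rw [hdl, hend m hm] at h2
        rcases (hmp m hm).lt_or_eq with hlt | rfl
        · have e1 := Nat.mul_le_mul_right l (show m + 1 ≤ p from hlt)
          have e2 : p * (r * q + l) = r * p * q + p * l := by ring
          rw [add_one_mul] at e1
          rw [add_mul] at h2
          omega
        · omega
    · rintro ⟨hq, hkl, hgap'⟩ t ht1 ht
      have htop : t ≤ (r * p + k) * q + p * l := by
        by_contra hc
        have : r * ((r * p + k) * q + p * l + 1) ≤ r * t := Nat.mul_le_mul_left r (by omega)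
        nlinarith
      refine ⟨Nat.find (⟨p, htop⟩ : ∃ m, t ≤ (r * p + k) * q + m * l), ?_⟩
      set hex : ∃ m, t ≤ (r * p + k) * q + m * l := ⟨p, htop⟩
      have hle : Nat.find hex ≤ p := Nat.find_min' hex htop
      have hbm : r * Nat.find hex ≤ r * p + k := (Nat.mul_le_mul_left r hle).trans (Nat.le_add_right _ _)
      refine ⟨hbm, ?_, by rw [hdl, hend _ hbm]; exact Nat.find_spec hex⟩
      rcases Nat.eq_zero_or_pos (Nat.find hex) with h0 | hpos
      · rw [h0, zero_mul]; omega
      · obtain ⟨j, hj⟩ : ∃ j, Nat.find hex = 1 + j := ⟨Nat.find hex - 1, by omega⟩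
        have hlt := Nat.find_min hex (m := j) (by omega)
        rw [hj]
        rcases hgap' with h0 | hlk
        · omega
        · have e1 : r * (1 + j) * q ≤ r * p * q := Nat.mul_le_mul_right q (Nat.mul_le_mul_left r (by omega))
          have e2 : (1 + j) * (r * q + l) = r * (1 + j) * q + j * l + l := by ring
          rw [add_mul] at hlt
          omega
  rw [key]
  constructor
  · rintro ⟨hq, hkl, hg⟩
    refine ⟨le_trans (Nat.le_mul_of_pos_right r hq) (Nat.le_add_right _ _), ?_⟩
    rcases Nat.eq_zero_or_pos l with hl0 | hl0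
    · exact Or.inl hl0
    rcases Nat.eq_zero_or_pos k with hk0 | hk0
    · refine Or.inr (Or.inl ⟨hk0, ?_⟩)
      subst hk0
      rcases hg with rfl | h
      · simp at hb
      · simp at h; omega
    · exact Or.inr (Or.inr ⟨by omega, by omega, hkl, hg⟩)
  · rintro ⟨hra, hcase⟩
    have hq : 1 ≤ q := by
      by_contra hq
      obtain rfl : q = 0 := by omega
      simp at hra
      omega
    refine ⟨hq, ?_⟩
    rcases hcase with rfl | ⟨rfl, rfl⟩ | ⟨-, -, h1, h2⟩
    · exact ⟨by simp; omega, Or.inr (Nat.zero_le _)⟩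
    · exact ⟨by simp; omega, Or.inr (by simp)⟩
    · exact ⟨h1, h2⟩

end Cfsg.Agent.Lib.UniformPart
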