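import Mathlib
import Cfsg.Agent.Lib.UniformPart.Arith

/-!
Uniform partitions fixed by a permutation of prime order.
-/

set_option autoImplicit false

namespace Cfsg.Agent.Lib.UniformPart

open Equiv

/-- `σ` permutes the fibres of some `a`-uniform map onto `Fin b`. -/
def FixesPartition (a b : ℕ) {X : Type*} (σ : Perm X) : Prop :=
  ∃ f : X → Fin b, (∀ j : Fin b, Nat.card {x : X // f x = j} = a) ∧
    ∃ π : Perm (Fin b), ∀ x : X, f (σ x) = π (f x)

theorem exists_spread (q : ℕ) : ∀ B S : ℕ, S ≤ B * q → ∃ c : Fin B → ℕ, (∀ j, c j ≤ q) ∧ ∑ j, c j = S := by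
  intro B
  induction B with
  | zero => exact fun S hS => ⟨fun j => j.elim0, fun j => j.elim0, by simp at hS; simp [hS]⟩
  | succ B ih =>
    intro S hS
    rw [add_one_mul] at hS
    obtain ⟨c, hc, hsum⟩ := ih (S - min S q) (by omega)
    refine ⟨Fin.cons (min S q) c, ?_, ?_⟩
    · exact Fin.cases (by simp) (fun j => by simpa using hc j)
    · rw [Fin.sum_cons, hsum]
      omega

theorem finRotate_pow_self (r : ℕ) : (finRotate r) ^ r = 1 := by
  rcases Nat.lt_or_ge r 2 with h | h
  · exact Equiv.ext fun i => Fin.ext (by have := i.2; have := ((finRotate r ^ r) i).2; omega)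
  · obtain ⟨n, rfl⟩ := Nat.exists_eq_add_of_le h
    rw [Nat.add_comm]
    have hord : orderOf (finRotate (n + 2)) = n + 2 := by
      rw [← Equiv.Perm.lcm_cycleType, cycleType_finRotate]
      simp
    have h2 := pow_orderOf_eq_one (finRotate (n + 2))
    rwa [hord] at h2

theorem finRotate_apply_ne {r : ℕ} (hr : 2 ≤ r) (i : Fin r) : finRotate r i ≠ i := by
  obtain ⟨n, rfl⟩ := Nat.exists_eq_add_of_le' hr
  exact Equiv.Perm.mem_support.1 (by rw [support_finRotate]; exact Finset.mem_univ i)

variable {r : ℕ} [hr : Fact r.Prime]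

theorem card_moved_dvd {X : Type*} [Fintype X] [DecidableEq X] {σ : Perm X} (h : σ ^ r = 1) :
    r ∣ σ.support.card := by
  have h1 := Equiv.Perm.card_compl_support_modEq (p := r) (n := 1) (σ := σ) (by rwa [pow_one])
  rw [Finset.card_compl] at h1
  have h2 : σ.support.card ≤ Fintype.card X := Finset.card_le_univ _
  have h3 := (Nat.modEq_iff_dvd' (Nat.sub_le _ _)).1 h1
  rwa [Nat.sub_sub_self h2] at h3

theorem cycleType_of_pow {X : Type*} [Fintype X] [DecidableEq X] {σ : Perm X} (h : σ ^ r = 1) {t : ℕ}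
    (ht : σ.support.card = r * t) : σ.cycleType = Multiset.replicate t r := by
  have hall : ∀ n ∈ σ.cycleType, n = r := fun n hn => by
    have h1 : n ∣ r := (Equiv.Perm.dvd_of_mem_cycleType hn).trans (orderOf_dvd_of_pow_eq_one h)
    rcases (Nat.dvd_prime hr.out).1 h1 with e | e
    · have := Equiv.Perm.two_le_of_mem_cycleType hn; omega
    · exact e
  refine Multiset.eq_replicate.2 ⟨?_, hall⟩
  have hsum := Equiv.Perm.sum_cycleType σ
  rw [Multiset.eq_replicate.2 ⟨rfl, hall⟩, Multiset.sum_replicate, smul_eq_mul, ht] at hsum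
  exact Nat.eq_of_mul_eq_mul_right hr.out.pos (by rw [hsum, mul_comm])

theorem exists_perm (N t : ℕ) (ht1 : 1 ≤ t) (htN : r * t ≤ N) :
    ∃ σ : Perm (Fin N), orderOf σ = r ∧ σ.support.card = r * t := by
  classical
  let τ : Perm (Fin t × Fin r ⊕ Fin (N - r * t)) :=
    Equiv.sumCongr (Equiv.prodCongr (Equiv.refl _) (finRotate r)) (Equiv.refl _)
  let e : Fin t × Fin r ⊕ Fin (N - r * t) ≃ Fin N := Fintype.equivFinOfCardEq (by
    simp only [Fintype.card_sum, Fintype.card_prod, Fintype.card_fin]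
    rw [mul_comm t r]
    omega)
  have hpow : ∀ n x, (τ ^ n) x = Sum.map (fun p => (p.1, (finRotate r ^ n) p.2)) id x := by
    intro n
    induction n with
    | zero => intro x; rcases x with ⟨i, j⟩ | i <;> rfl
    | succ n ih =>
      intro x
      rw [pow_succ', Perm.mul_apply, ih]
      rcases x with ⟨i, j⟩ | i
      · simp [τ, pow_succ']
      · rfl
  have hsupp : (e.permCongr τ).support.card = r * t := by
    rw [show (e.permCongr τ).support = τ.support.map e.toEmbedding by
      ext x; obtain ⟨y, rfl⟩ := e.surjective x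
      simp [Equiv.Perm.mem_support, Equiv.permCongr_apply]]
    rw [Finset.card_map, show τ.support = Finset.univ.map ⟨Sum.inl, Sum.inl_injective⟩ by
      ext x
      rcases x with ⟨i, j⟩ | i
      · simp [Equiv.Perm.mem_support, τ, hr.out.ne_one]
      · simp [Equiv.Perm.mem_support, τ]]
    rw [Finset.card_map, Finset.card_univ, Fintype.card_prod, Fintype.card_fin, Fintype.card_fin, mul_comm]
  refine ⟨e.permCongr τ, ?_, hsupp⟩
  refine orderOf_eq_prime ?_ (fun h => ?_)
  · rw [← Equiv.permCongrHom_coe, ← map_pow, show τ ^ r = 1 from Equiv.ext fun x => by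
      rw [hpow, finRotate_pow_self]; rcases x with ⟨i, j⟩ | i <;> rfl, map_one]
  · rw [h, Equiv.Perm.support_one, Finset.card_empty] at hsupp
    have := Nat.mul_pos hr.out.pos ht1
    omega

theorem feasible_of_fixes {a b : ℕ} (ha : 2 ≤ a) {X : Type*} [Fintype X] [DecidableEq X] {σ : Perm X}
    (hσ : σ ^ r = 1) {t : ℕ} (ht : σ.support.card = r * t) (h : FixesPartition a b σ) : Feasible a b r t := by
  classical
  obtain ⟨f, hf, π, hπ⟩ := h
  have hsurj : Function.Surjective f := fun j => by
    have h0 : 0 < Nat.card {x : X // f x = j} := by rw [hf]; omega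
    obtain ⟨⟨x, hx⟩⟩ := (Nat.card_pos_iff.1 h0).1
    exact ⟨x, hx⟩
  have hπn : ∀ (n : ℕ) x, f ((σ ^ n) x) = (π ^ n) (f x) := by
    intro n
    induction n with
    | zero => intro x; rfl
    | succ n ih => intro x; rw [pow_succ', Perm.mul_apply, hπ, ih, pow_succ', Perm.mul_apply]
  have hπr : π ^ r = 1 := Equiv.ext fun j => by
    obtain ⟨x, rfl⟩ := hsurj j
    rw [← hπn, hσ]; rfl
  obtain ⟨m, hm⟩ := card_moved_dvd hπr
  have hfib : ∀ j, (Finset.univ.filter fun x => f x = j).card = a := fun j => by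
    rw [← hf j, Nat.card_eq_fintype_card, Fintype.card_subtype]
  -- moved points in each block
  let c : Fin b → ℕ := fun j => (σ.support.filter fun x => f x = j).card
  have hc : σ.support.card = ∑ j, c j :=
    Finset.card_eq_sum_card_fiberwise fun x _ => Finset.mem_univ (f x)
  have hca : ∀ j, c j ≤ a := fun j => by
    rw [← hfib j]; exact Finset.card_le_card (Finset.filter_subset_filter _ (Finset.subset_univ _))
  have hmoved : ∀ j ∈ π.support, c j = a := fun j hj => by
    rw [← hfib j]
    refine congrArg Finset.card (Finset.ext fun x => ?_)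
    simp only [Finset.mem_filter, Finset.mem_univ, true_and, and_iff_right_iff_imp, Perm.mem_support]
    intro hx hσx
    refine Perm.mem_support.1 hj ?_
    rw [← hx, ← hπ, hσx]
  have hfixed : ∀ j, j ∉ π.support → c j ≤ r * (a / r) := fun j hj => by
    have hj' : π j = j := Perm.notMem_support.1 hj
    have hinv : ∀ x, f (σ x) = j ↔ f x = j := fun x => by
      rw [hπ]
      exact ⟨fun e => π.injective (e.trans hj'.symm), fun e => by rw [e, hj']⟩
    have hd : r ∣ c j := by
      have h1 := card_moved_dvd (r := r) (σ := σ.subtypePerm (p := fun x => f x = j) hinv) (by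
        rw [Equiv.Perm.subtypePerm_pow]
        ext x
        simp [hσ])
      have e : (σ.subtypePerm (p := fun x => f x = j) hinv).support.map (Function.Embedding.subtype _) =
          σ.support.filter fun x => f x = j := by
        ext x
        simp [Perm.mem_support, Subtype.ext_iff, and_comm]
      rwa [← Finset.card_map (Function.Embedding.subtype _), e] at h1
    obtain ⟨d, hd⟩ := hd
    have := hca j
    rw [hd] at this ⊢
    exact Nat.mul_le_mul_left r ((Nat.le_div_iff_mul_le hr.out.pos).2 (by rw [mul_comm]; exact this))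
  have hsplit : ∑ j, c j = ∑ j ∈ π.support, c j + ∑ j ∈ π.supportᶜ, c j :=
    (Finset.sum_add_sum_compl _ _).symm
  rw [Finset.sum_congr rfl hmoved, Finset.sum_const, smul_eq_mul, hm] at hsplit
  have hle : ∑ j ∈ π.supportᶜ, c j ≤ (b - r * m) * (r * (a / r)) := by
    refine (Finset.sum_le_card_nsmul _ _ _ fun j hj => hfixed j (Finset.mem_compl.1 hj)).trans_eq ?_
    rw [Finset.card_compl, Fintype.card_fin, hm, smul_eq_mul]
  rw [ht] at hc
  refine ⟨m, ?_, ?_, ?_⟩
  · rw [← hm]; exact (Finset.card_le_univ _).trans_eq (Fintype.card_fin b)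
  · refine Nat.le_of_mul_le_mul_left (show r * (m * a) ≤ r * t from ?_) hr.out.pos
    rw [← mul_assoc]; omega
  · refine Nat.le_of_mul_le_mul_left (show r * t ≤ r * (m * a + (b - r * m) * (a / r)) from ?_) hr.out.pos
    rw [mul_add, ← mul_assoc r m a, mul_left_comm r]; omega

theorem fixes_of_feasible {a b t : ℕ} (h : Feasible a b r t) (σ : Perm (Fin (a * b))) (hσ : σ ^ r = 1)
    (ht : σ.support.card = r * t) : FixesPartition a b σ := by
  classical
  obtain ⟨m, hmb, h1, h2⟩ := h
  obtain ⟨c, hc, hsum⟩ := exists_spread (a / r) (b - r * m) (t - m * a) (by omega)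
  have hca : ∀ j, r * c j ≤ a := fun j => (Nat.mul_le_mul_left r (hc j)).trans (Nat.mul_div_le a r)
  let Y := (Fin m × Fin r) × Fin a ⊕ (j : Fin (b - r * m)) × (Fin (c j) × Fin r ⊕ Fin (a - r * c j))
  let blk : Y → Fin m × Fin r ⊕ Fin (b - r * m) := Sum.map Prod.fst Sigma.fst
  let τ : Perm Y := Equiv.sumCongr
    (Equiv.prodCongr (Equiv.prodCongr (Equiv.refl _) (finRotate r)) (Equiv.refl _))
    (Equiv.sigmaCongrRight fun j => Equiv.sumCongr (Equiv.prodCongr (Equiv.refl _) (finRotate r)) (Equiv.refl _))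
  let ρ : Perm (Fin m × Fin r ⊕ Fin (b - r * m)) :=
    Equiv.sumCongr (Equiv.prodCongr (Equiv.refl _) (finRotate r)) (Equiv.refl _)
  have hblk : ∀ y, blk (τ y) = ρ (blk y) := by
    rintro (⟨⟨i, j⟩, k⟩ | ⟨j, (⟨i, k⟩ | i)⟩) <;> rfl
  have hfibre : ∀ z, Nat.card {y : Y // blk y = z} = a := by
    rintro (⟨i, j⟩ | j)
    · rw [Nat.card_congr Equiv.subtypeSum, Nat.card_sum]
      haveI : IsEmpty {p : (j' : Fin (b - r * m)) × (Fin (c j') × Fin r ⊕ Fin (a - r * c j')) //
          blk (Sum.inr p) = Sum.inl (i, j)} := ⟨fun p => Sum.inr_ne_inl p.2⟩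
      have hz : Nat.card {p : (j' : Fin (b - r * m)) × (Fin (c j') × Fin r ⊕ Fin (a - r * c j')) //
          blk (Sum.inr p) = Sum.inl (i, j)} = 0 := Nat.card_of_isEmpty
      rw [hz, add_zero, Nat.card_congr (β := Fin a)
        { toFun := fun p => p.1.2
          invFun := fun k => ⟨((i, j), k), rfl⟩
          left_inv := fun p => Subtype.ext (Prod.ext (Sum.inl_injective p.2).symm rfl)
          right_inv := fun k => rfl }, Nat.card_fin]
    · rw [Nat.card_congr Equiv.subtypeSum, Nat.card_sum]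
      haveI : IsEmpty {p : (Fin m × Fin r) × Fin a // blk (Sum.inl p) = Sum.inr j} :=
        ⟨fun p => Sum.inl_ne_inr p.2⟩
      rw [Nat.card_of_isEmpty, zero_add, Nat.card_congr ((Equiv.subtypeEquivRight fun p =>
          show blk (Sum.inr p) = Sum.inr j ↔ p.1 = j from Sum.inr_injective.eq_iff).trans (Equiv.sigmaSubtype j)),
        Nat.card_sum, Nat.card_prod, Nat.card_fin, Nat.card_fin, Nat.card_fin]
      have := hca j
      rw [mul_comm (c j) r]
      omega
  have hsupp : τ.support.card = r * t := by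
    have e : τ.support = Finset.univ.filter fun y => τ y ≠ y := rfl
    have hne := fun i => finRotate_apply_ne hr.out.two_le i
    have hl : ∀ p, τ (Sum.inl p) ≠ Sum.inl p := fun p e' =>
      hne p.1.2 (congrArg (fun q => q.1.2) (Sum.inl_injective e'))
    have hm : ∀ j (p : Fin (c j) × Fin r), τ (Sum.inr ⟨j, Sum.inl p⟩) ≠ Sum.inr ⟨j, Sum.inl p⟩ := fun j p e' =>
      hne p.2 (congrArg Prod.snd (Sum.inl_injective (eq_of_heq (Sigma.mk.inj (Sum.inr_injective e')).2)))
    have hn : ∀ j (i : Fin (a - r * c j)), τ (Sum.inr ⟨j, Sum.inr i⟩) = Sum.inr ⟨j, Sum.inr i⟩ := fun _ _ => rfl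
    rw [e, Finset.card_filter, Fintype.sum_sum_type, Fintype.sum_sigma]
    simp only [Fintype.sum_sum_type, if_pos (hl _), if_pos (hm _ _), ne_eq, hn, not_true, if_false,
      Finset.sum_const, Finset.card_univ, Fintype.card_prod, Fintype.card_fin, smul_eq_mul, mul_one, mul_zero,
      add_zero]
    rw [← Finset.sum_mul, hsum, Nat.sub_mul, mul_comm r t]
    have : m * a * r ≤ t * r := Nat.mul_le_mul_right r h1
    rw [mul_right_comm m r a]
    omega
  have hτr : τ ^ r = 1 := by
    have hp : ∀ n y, (τ ^ n) y = Sum.map (fun p => ((p.1.1, (finRotate r ^ n) p.1.2), p.2))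
        (fun s => (⟨s.1, Sum.map (fun p => (p.1, (finRotate r ^ n) p.2)) id s.2⟩ :
          (j : Fin (b - r * m)) × (Fin (c j) × Fin r ⊕ Fin (a - r * c j)))) y := by
      intro n
      induction n with
      | zero => rintro (⟨⟨i, j⟩, k⟩ | ⟨j, (⟨i, k⟩ | i)⟩) <;> rfl
      | succ n ih =>
        intro y
        rw [pow_succ', Perm.mul_apply, ih]
        rcases y with ⟨⟨i, j⟩, k⟩ | ⟨j, (⟨i, k⟩ | i)⟩ <;>
          simp only [Sum.map_inl, Sum.map_inr, pow_succ', Perm.mul_apply, id] <;> rfl
    refine Equiv.ext fun y => ?_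
    rw [hp, finRotate_pow_self]
    rcases y with ⟨⟨i, j⟩, k⟩ | ⟨j, (⟨i, k⟩ | i)⟩ <;> rfl
  let eb : Fin m × Fin r ⊕ Fin (b - r * m) ≃ Fin b := Fintype.equivFinOfCardEq (by
    simp only [Fintype.card_sum, Fintype.card_prod, Fintype.card_fin]
    rw [mul_comm m r]
    omega)
  have hY : Nat.card Y = a * b := by
    rw [← Nat.card_congr (Equiv.sigmaFiberEquiv blk), Nat.card_sigma, Finset.sum_congr rfl fun z _ => hfibre z,
      Finset.sum_const, Finset.card_univ, Fintype.card_congr eb, Fintype.card_fin, smul_eq_mul, mul_comm]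
  let e : Y ≃ Fin (a * b) := Fintype.equivFinOfCardEq (by rw [← Nat.card_eq_fintype_card]; exact hY)
  have hsupp' : (e.permCongr τ).support.card = r * t := by
    rw [show (e.permCongr τ).support = τ.support.map e.toEmbedding by
      ext x; obtain ⟨y, rfl⟩ := e.surjective x
      simp [Equiv.Perm.mem_support, Equiv.permCongr_apply], Finset.card_map, hsupp]
  have hpow' : (e.permCongr τ) ^ r = 1 := by rw [← Equiv.permCongrHom_coe, ← map_pow, hτr, map_one]
  obtain ⟨g, hg⟩ := isConj_iff.1 (Equiv.Perm.isConj_iff_cycleType_eq.2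
    ((cycleType_of_pow hσ ht).trans (cycleType_of_pow hpow' hsupp').symm))
  refine ⟨fun x => eb (blk (e.symm (g x))), fun j => ?_, eb.permCongr ρ, fun x => ?_⟩
  · refine Eq.trans ?_ (hfibre (eb.symm j))
    refine Nat.card_congr (Equiv.subtypeEquiv (g.trans e.symm) fun x => ?_)
    rw [Equiv.trans_apply, Equiv.eq_symm_apply]
  · have e1 : g (σ x) = e (τ (e.symm (g x))) := by
      have := Equiv.congr_fun hg (g x)
      rw [Perm.mul_apply, Perm.mul_apply, Perm.inv_def, Equiv.symm_apply_apply, Equiv.permCongr_apply] at this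
      exact this
    show eb (blk (e.symm (g (σ x)))) = eb.permCongr ρ (eb (blk (e.symm (g x))))
    rw [e1, Equiv.symm_apply_apply, hblk, Equiv.permCongr_apply, Equiv.symm_apply_apply]

end Cfsg.Agent.Lib.UniformPart
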